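import Cfsg.Agent.Lib.Helper69.EQ.TV
import Cfsg.Agent.Lib.Helper69.EQ.AR1
import Cfsg.Agent.S3360

set_option autoImplicit false

namespace Cfsg.Agent.Lib.Helper69.EQ

variable {p n : ℕ} [Fact p.Prime] {V : Type*} [AddCommGroup V] [Module (ZMod p) V] [Finite V]

theorem huppert {Gh : Subgroup (V ≃ₗ[ZMod p] V)} (hn : 3 ≤ n) (h : LCfg p n Gh) (hs : HasScalars p Gh) :
    (∃ (F : Type) (_ : Field F) (_ : Fintype F) (e : V ≃+ F), ∀ g ∈ Gh, SemiLin e g) ∨ (p = 3 ∧ n = 4) := by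
  have hp : p.Prime := Fact.out
  have := finite_glv p V
  have hnt : Nontrivial V := by
    rw [← Finite.one_lt_card_iff_nontrivial, h.card]
    exact Nat.one_lt_pow (by omega) hp.one_lt
  have htr : ∀ v w : V, v ≠ 0 → w ≠ 0 → ∃ g : Gh, Gh.subtype g v = w := by
    intro v w hv hw
    obtain ⟨g, hg, hgv⟩ := trans_vec h hs v w hv hw
    exact ⟨⟨g, hg⟩, hgv⟩
  rcases Cfsg.Agent.S3360.result p h.solv Gh.subtype Subtype.val_injective htr with
    ⟨F, i1, i2, e, he⟩ | h81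
  · left
    exact ⟨F, i1, i2, e, fun g hg => he ⟨g, hg⟩⟩
  · right
    rw [h.card] at h81
    exact ar_list hp hn h81

end Cfsg.Agent.Lib.Helper69.EQ
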