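import Cfsg.Agent.Lib.Helper69.EQ.AR1
import Cfsg.Agent.Lib.Helper69.EQ.AR6
import Cfsg.Agent.Lib.Helper69.EQ.AR7
import Cfsg.Agent.Lib.Helper69.EQ.CS
import Cfsg.Agent.Lib.Helper69.EQ.CA
import Cfsg.Agent.Lib.Helper69.EQ.NA
import Cfsg.Agent.Lib.Helper69.EQ.GF
import Cfsg.Agent.Lib.Helper69.EQ.FA
import Cfsg.Agent.Lib.Helper69.EQ.FIN5
import Cfsg.Agent.Lib.Helper69.EQ.FIN3
import Cfsg.Agent.Lib.Helper69.EQ.CNT
import Cfsg.Agent.Lib.Helper69.EQ.HAT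
import Cfsg.Agent.Lib.Helper69.EQ.TV
import Cfsg.Agent.Lib.Helper69.EQ.HUP
import Cfsg.Agent.Lib.Helper69.EQ.ORB1
import Cfsg.Agent.Lib.Helper69.EQ.ORB2
import Cfsg.Agent.Lib.Helper69.EQ.FLD
import Cfsg.Agent.Lib.Helper69.EQ.TR
import Cfsg.Agent.Lib.Helper69.EQ.N1
import Cfsg.Agent.Lib.Helper69.EQ.N2
import Cfsg.Agent.Lib.Helper69.EQ.N3
import Cfsg.Agent.Lib.Helper69.EQ.N4
import Cfsg.Agent.Lib.Helper69.EQ.N5
import Cfsg.Agent.Lib.Helper69.EQ.N6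
import Cfsg.Agent.Lib.Helper69.EQ.N7
import Cfsg.Agent.Lib.Helper69.EQ.N8
import Cfsg.Agent.Lib.Helper69.EQ.N9
import Cfsg.Agent.Lib.Helper69.EQ.N10
import Cfsg.Agent.Lib.Helper69.EQ.LZ
import Cfsg.Agent.Lib.Helper69.EQ.KQ
import Cfsg.Agent.Lib.Helper69.EQ.LC1
import Cfsg.Agent.Lib.Helper69.EQ.LC2
import Cfsg.Agent.Lib.Helper69.EQ.LC3
import Cfsg.Agent.Lib.Helper69.EQ.CD
import Cfsg.Agent.Lib.Helper69.EQ.EM1
import Cfsg.Agent.Lib.Helper69.EQ.EM2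
import Cfsg.Agent.Lib.Helper69.EQ.EM3
import Cfsg.Agent.Lib.Helper69.EQ.EM4
import Cfsg.Agent.Lib.Helper69.EQ.R1
import Cfsg.Agent.Lib.Helper69.EQ.R2

set_option autoImplicit false

namespace Cfsg.Agent.Lib.Helper69.EQ

universe u

section
variable {p n : ℕ} [Fact p.Prime] {V : Type*} [AddCommGroup V] [Module (ZMod p) V] [Finite V]

theorem field_case_num {Gh : Subgroup (V ≃ₗ[ZMod p] V)} (hn : 3 ≤ n) (h : LCfg p n Gh)
    (hs : HasScalars p Gh) {F : Type} [Field F] [Fintype F] (e : V ≃+ F)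
    (hsl : ∀ g ∈ Gh, SemiLin e g) : n = 3 ∨ (n = 5 ∧ p = 2) := by
  have hp : p.Prime := Fact.out
  have hF : Nat.card F = p ^ n := by
    rw [← h.card]; exact (Nat.card_congr e.toEquiv).symm
  have h1 := card_lines (p := p) (V := V) h.card (by omega : 2 ≤ n)
  have h2 := lines_mul_dvd h hs (by omega : 2 ≤ n)
  have h3 := card_dvd_semiaffine e Gh hsl
  rw [card_semiaffine, card_aut_of_card F hF (by omega), hF] at h3
  exact ar_final hp hn (ar_dvd hp hn h1 h2 h3 h.cop)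

/-- the linear theorem -/
theorem linear_main {L : Subgroup (V ≃ₗ[ZMod p] V)} (hn : 3 ≤ n) (h : LCfg p n L) :
    (n = 3 ∨ (n = 5 ∧ p = 2)) ∧ ∃ e : V ≃+ GaloisField p n, ∀ g ∈ L, SemiLin e g := by
  obtain ⟨Gh, hL, hG, hs⟩ := exists_hat h
  rcases huppert hn hG hs with ⟨F, _, _, e, hsl⟩ | ⟨rfl, rfl⟩
  · refine ⟨field_case_num hn hG hs e hsl, ?_⟩
    obtain ⟨e', he'⟩ := transport (p := p) (n := n) (V := V) h.card (by omega) e
    exact ⟨e', fun g hg => he' g (hsl g (hL hg))⟩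
  · exact (not_81 h).elim

end

section
variable {p n : ℕ} [Fact p.Prime] {X : Type u} [Group X] [Finite X] {Q : Subgroup X}

theorem lcfg_range {V : Type*} [AddCommGroup V] [Module (ZMod p) V] [Finite V] (h : Cfg p n Q)
    (lin : Lin p Q V) : LCfg p n lin.ρ.range where
  card := by rw [Nat.card_congr lin.ι, h.card]
  solv := range_solvable h lin
  cop := range_cop h lin
  trans := range_trans h lin

theorem abstract_main (hn : 3 ≤ n) (h : Cfg p n Q) :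
    (n = 3 ∧ (∃ f : X ⧸ Cfsg.pPrimeCore p X →* ↥(Cfsg.semiaffineGroup (GaloisField p 3)), Function.Injective f) ∧
      (p = 2 → Nonempty (X ⧸ Cfsg.pPrimeCore p X ≃* Cfsg.semiaffineGroup (GaloisField 2 3)) ∨
               Nonempty (X ⧸ Cfsg.pPrimeCore p X ≃* Cfsg.affineGroup (GaloisField 2 3)))) ∨
    (n = 5 ∧ p = 2 ∧ Nonempty (X ⧸ Cfsg.pPrimeCore p X ≃* Cfsg.semiaffineGroup (GaloisField 2 5))) := by
  obtain ⟨V, _, _, _, ⟨lin⟩⟩ := exists_lin h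
  have hL := lcfg_range h lin
  obtain ⟨hnum, e, hsl⟩ := linear_main hn hL
  obtain ⟨H, hH⟩ := exists_compl h
  obtain ⟨f0, hker, hS⟩ := exists_perm_rep h lin H hH e (fun x => hsl _ ⟨x, rfl⟩)
  rw [normalCore_eq h H hH] at hker
  obtain ⟨f, hf⟩ := exists_inj_of_ker (Cfsg.pPrimeCore p X) (Cfsg.semiaffineGroup (GaloisField p n)) f0 hker hS
  have hcd := card_mul_dvd h lin
  have hl1 := card_lines (p := p) (V := V) hL.card (by omega : 2 ≤ n)
  have hl2 := lines_dvd hL (by omega : 2 ≤ n)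
  rcases hnum with rfl | ⟨rfl, rfl⟩
  · left
    refine ⟨rfl, ⟨f, hf⟩, ?_⟩
    rintro rfl
    apply fin3 f hf
    have h7 : Nat.card (Lines 2 V) = 7 := by
      norm_num at hl1
      omega
    rw [h7] at hl2
    rw [h.card] at hcd
    exact dvd_trans (Nat.mul_dvd_mul (by norm_num) hl2) hcd
  · right
    refine ⟨rfl, rfl, ?_⟩
    apply fin5 f hf
    have h155 : Nat.card (Lines 2 V) = 155 := by
      norm_num at hl1
      omega
    rw [h155] at hl2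
    rw [h.card] at hcd
    exact dvd_trans (Nat.mul_dvd_mul (by norm_num) hl2) hcd

end

end Cfsg.Agent.Lib.Helper69.EQ
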